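import Cfsg.Agent.Lib.ChevCore.NGroup

/-!
The refined Bruhat normal form `g = b n u` in a group with root elements and a matrix realisation.
-/

set_option autoImplicit false

namespace Cfsg.Agent.ChevNormal82

open Cfsg.Agent.ChevGroup Cfsg.Agent.ChevCore

variable {G : Type*} [Group G] {F : Type*} [Field F] {Φ I : Type*} {S : RootIdx Φ I}

section rel

variable (R : RootRel G F S)

/-- generated by the root elements of the negative roots -/
def negU : Subgroup G := Subgroup.closure {g | ∃ r t, ¬ S.pos r ∧ g = R.x r t}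

/-- generated by the positive root elements made negative by the word -/
def Uw (w : List I) : Subgroup G :=
  Subgroup.closure {g | ∃ r t, S.pos r ∧ ¬ S.pos (S.actw w r) ∧ g = R.x r t}

theorem U_factor : ∀ w : List I, S.Red w → ∀ g ∈ R.U,
    ∃ v ∈ R.U, R.nw w * v * (R.nw w)⁻¹ ∈ R.U ∧ ∃ u ∈ Uw R w, g = v * u := by
  intro w
  induction w with
  | nil => intro _ g hg; exact ⟨g, hg, by simpa using hg, 1, one_mem _, by simp⟩
  | cons i u ih =>
    intro hred g hg
    obtain ⟨hα, hneg⟩ := S.red_cons_root hred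
    obtain ⟨v, hv, hb, u', hu', rfl⟩ := ih hred.2 g hg
    obtain ⟨b', hb', t, hbt⟩ := R.U_decomp i hb
    set α := S.actw u.reverse (S.simple i) with hαdef
    obtain ⟨e, he⟩ := R.nw_inv_conj_x u (S.simple i) t
    rw [← hαdef] at he
    have hsub : Uw R u ≤ Uw R (i :: u) := by
      refine (Subgroup.closure_le _).2 ?_
      rintro _ ⟨r, t', hr, hr', rfl⟩
      refine Subgroup.subset_closure ⟨r, t', hr, ?_, rfl⟩
      rw [S.actw_cons]
      intro hp
      have hs : S.pos (S.neg (S.actw u r)) := (S.pos_or_neg _).resolve_left hr'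
      by_cases hne : S.neg (S.actw u r) = S.simple i
      · have hα' : α = S.neg r := by
          rw [hαdef, ← hne, ← S.actw_neg u]
          exact S.actw_reverse' u (S.neg r)
        exact S.not_pos_neg r hr (hα' ▸ hα)
      · have := S.refl_pos i _ hs hne
        rw [S.refl_neg] at this
        exact S.not_pos_neg _ hp this
    have hx : R.x α (e * t) ∈ Uw R (i :: u) :=
      Subgroup.subset_closure ⟨α, _, hα, by rw [hneg]; exact S.not_pos_neg _ (S.simple_pos i), rfl⟩
    refine ⟨v * (R.x α (e * t))⁻¹, mul_mem hv (inv_mem (R.x_mem_U hα _)), ?_,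
      R.x α (e * t) * u', mul_mem hx (hsub hu'), by group⟩
    have e1 : R.nw (i :: u) * (v * (R.x α (e * t))⁻¹) * (R.nw (i :: u))⁻¹ =
        R.n i * ((R.nw u * v * (R.nw u)⁻¹) * (R.x (S.simple i) t)⁻¹) * (R.n i)⁻¹ := by
      rw [R.nw_cons, ← he]; group
    rw [e1, hbt, show b' * R.x (S.simple i) t * (R.x (S.simple i) t)⁻¹ = b' by group]
    exact R.Ui_le_U i (R.n_conj_Ui i hb')

theorem exists_form {g : G} (hg : g ∈ R.B ⊔ Subgroup.closure (Set.range R.n)) :
    ∃ b ∈ R.B, ∃ w, S.Red w ∧ ∃ u ∈ Uw R w, g = b * R.nw w * u := by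
  obtain ⟨b, hb, w, hw, b', hb', rfl⟩ := R.exists_bruhat hg
  obtain ⟨u0, hu0, h, hh, e⟩ := R.mem_B_iff.1 (inv_mem hb')
  obtain ⟨v, _, hv, u, hu, hvu⟩ := U_factor R w hw _ (inv_mem hu0)
  refine ⟨b * ((R.nw w * h⁻¹ * (R.nw w)⁻¹) * (R.nw w * v * (R.nw w)⁻¹)),
    mul_mem hb (mul_mem (R.H_le_B (nw_conj_mem_H R w (inv_mem hh))) (R.U_le_B hv)), w, hw, u, hu, ?_⟩
  have e' : b' = h⁻¹ * (v * u) := by
    rw [← hvu, ← mul_inv_rev, e, inv_inv]
  rw [e']; group

theorem Uw_le_U (w : List I) : Uw R w ≤ R.U :=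
  Subgroup.closure_mono fun _ ⟨r, t, hr, _, e⟩ => ⟨r, t, hr, e⟩

theorem nw_conj_x_mem_negU (w : List I) {r : Φ} (h : ¬ S.pos (S.actw w r)) (t : F) :
    R.nw w * R.x r t * (R.nw w)⁻¹ ∈ negU R := by
  obtain ⟨e, -, he⟩ := R.nw_conj w r
  rw [he]
  exact Subgroup.subset_closure ⟨_, _, h, rfl⟩

end rel

section shape

variable {R : RootRel G F S} {ι : Type*} [Fintype ι] [DecidableEq ι] (M : Shape R ι)

theorem lowUni_of_negU {g : G} (hg : g ∈ negU R) : Uni (fun a => -M.key a) (M.mat g) := by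
  have hgen : ∀ r t, ¬ S.pos r → Uni (fun a => -M.key a) (M.mat (R.x r t)) := fun r t hr => by
    have h := M.uni_neg (S.neg r) t ((S.pos_or_neg r).resolve_left hr)
    rwa [S.neg_neg] at h
  induction hg using Subgroup.closure_induction'' with
  | mem g hg => obtain ⟨r, t, hr, rfl⟩ := hg; exact hgen r t hr
  | inv_mem g hg => obtain ⟨r, t, hr, rfl⟩ := hg; rw [← R.x_neg]; exact hgen r _ hr
  | one => rw [M.mat_one]; intro a b _; simp [Matrix.one_apply]
  | mul g h _ _ hg hh => rw [M.mat_mul]; exact hg.mul hh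

include M in
theorem B_inter_negU {g : G} (hb : g ∈ R.B) (hn : g ∈ negU R) : g = 1 := by
  have h1 := (M.tri_of_B hb).1
  have h2 := lowUni_of_negU M hn
  refine M.eq_one ?_
  ext a b
  rcases eq_or_ne a b with rfl | hab
  · simpa using h2 a a le_rfl
  · rw [Matrix.one_apply_ne hab]
    rcases le_or_gt (M.key a) (M.key b) with h | h
    · exact h1 a b hab h
    · have h3 := h2 a b (by simp only [neg_le_neg_iff]; exact h.le)
      simpa [hab] using h3

include M in
theorem actw_eq_of_nw {w v : List I} {h : G} (hh : h ∈ R.H) (e : R.nw w = h * R.nw v) (r : Φ) :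
    S.actw w r = S.actw v r := by
  refine M.e_inj ?_
  by_contra hne
  refine M.mono_word_ne w r ?_
  rw [e, M.mat_mul, Matrix.mul_apply]
  refine Finset.sum_eq_zero fun c _ => ?_
  rcases eq_or_ne c (M.e (S.actw w r)) with rfl | hc
  · rw [M.mono_word v r _ hne, mul_zero]
  · rw [M.diag_of_H hh _ _ hc.symm, zero_mul]

include M in
theorem unique_N (hP : ∀ p ∈ R.B, M.Pres S.pos p) {n n' : G} (hn : n ∈ engN R) (hn' : n' ∈ engN R)
    {b c : G} (hb : b ∈ R.B) (hc : c ∈ R.B) (e : b * n = n' * c) : n⁻¹ * n' ∈ R.H := by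
  obtain ⟨h, hh, w, rfl⟩ := mem_engN R hn
  obtain ⟨h', hh', v, rfl⟩ := mem_engN R hn'
  have hcell : cell R.B R.B (R.nw w) = cell R.B R.B (R.nw v) := by
    refine (cell_eq_of_mem ?_).symm
    refine mem_cell.2 ⟨h'⁻¹ * b * h,
      mul_mem (mul_mem (R.H_le_B (inv_mem hh')) hb) (R.H_le_B hh), ?_⟩
    refine QuotientGroup.eq.2 ?_
    have e1 : h'⁻¹ * b * h * R.nw w = R.nw v * c := by
      rw [show h'⁻¹ * b * h * R.nw w = h'⁻¹ * (b * (h * R.nw w)) by group, e]; group
    rw [e1]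
    simpa [mul_assoc] using hc
  have him := M.image_of_cell_eq hP hcell
  obtain ⟨k, hk, ev⟩ := nw_inv_eq R v
  -- `k' := (nw v)⁻¹ nw w` is `k * nw (v.reverse ++ w)`
  obtain ⟨z, hz, -, -, j, hj, ez⟩ := R.exists_red (v.reverse ++ w)
  have hkey : R.nw w = (R.nw v * (k * j) * (R.nw v)⁻¹) * R.nw (v ++ z) := by
    rw [R.nw_append, show R.nw v * (k * j) * (R.nw v)⁻¹ * (R.nw v * R.nw z) =
      R.nw v * (k * (j * R.nw z)) by group, ← ez, R.nw_append,
      show R.nw v * (k * (R.nw v.reverse * R.nw w)) = R.nw v * (k * R.nw v.reverse) * R.nw w by group,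
      ← ev]
    group
  have hz' : z = [] := by
    cases z with
    | nil => rfl
    | cons i u =>
      exfalso
      obtain ⟨hp, hn2⟩ := S.red_cons_root hz
      set r := S.actw u.reverse (S.simple i)
      obtain ⟨s, hs, hws⟩ := him r hp
      rw [actw_eq_of_nw M (nw_conj_mem_H R v (mul_mem hk hj)) hkey r, S.actw_append] at hws
      have := congrArg (S.actw v.reverse) hws
      rw [S.actw_reverse' v, S.actw_reverse' v, hn2] at this
      exact S.not_pos_neg _ (S.simple_pos i) (this ▸ hs)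
  subst hz'
  rw [List.append_nil] at hkey
  -- `nw w = h₃ * nw v`
  have h3 := nw_conj_mem_H R v (mul_mem hk hj)
  set h₃ := R.nw v * (k * j) * (R.nw v)⁻¹
  have e2 : (h * R.nw w)⁻¹ * (h' * R.nw v) = (R.nw v)⁻¹ * ((h * h₃)⁻¹ * h') * R.nw v := by
    rw [hkey]; group
  rw [e2]
  exact R.nw_inv_conj_mem_H v (mul_mem (inv_mem (mul_mem hh h3)) hh')

end shape

end Cfsg.Agent.ChevNormal82
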