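import Cfsg.Agent.ChevNormal82.Engine
import Cfsg.Agent.Lib.ChevCore.Models

/-!
The refined Bruhat normal form for the seven data.
-/

set_option autoImplicit false

namespace Cfsg.Agent.ChevNormal82

open Cfsg.Lie Cfsg.Agent.ChevGroup Cfsg.Agent.ChevCore

variable {F : Type*} [Field F] {D : ChevalleyDatum}

/-- the group generated by the positive root subgroups carried into `V` by `n` -/
def Uneg (D : ChevalleyDatum) (F : Type*) [Field F] (n : GL D.Idx F) : Subgroup (GL D.Idx F) :=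
  Subgroup.closure {x : GL D.Idx F | ∃ (r : ℕ) (t : F), D.IsPosRoot r ∧
    (D.rootSubgroup F r).map (MulAut.conj n).toMonoidHom ≤ D.negUnipotent F ∧
    (x : Matrix D.Idx D.Idx F) = D.x F r t}

variable (T : Model D) (K : Rels D F)

theorem negU_map : (negU (T.rel K)).map (D.group F).subtype = D.negUnipotent F := by
  rw [negU, MonoidHom.map_closure, ChevalleyDatum.negUnipotent]
  congr 1
  ext g
  constructor
  · rintro ⟨_, ⟨r, t, hr, rfl⟩, rfl⟩
    refine ⟨r.val, t, ?_, rfl⟩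
    rw [T.negRoot_iff (T.lt r)]
    rw [T.pos_val, T.pos_iff (T.lt r)] at hr
    omega
  · rintro ⟨r, t, hr, he⟩
    let r' : Fin T.tab.n := ⟨r, T.n_eq.symm ▸ hr.1⟩
    have h2 := (T.negRoot_iff hr.1).1 hr
    refine ⟨T.xG K r' t, ⟨r', t, ?_, rfl⟩, Units.ext (by rw [he]; rfl)⟩
    rw [T.pos_val, T.pos_iff (T.lt r')]
    show ¬ D.nroots ≤ 2 * r
    omega

theorem pres_pos {p : ↥(D.group F)} (hp : p ∈ (T.rel K).B) : (T.shapeR K).Pres T.S.pos p := by
  intro r hr a ha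
  refine ((T.shapeR K).tri_of_B hp).1 a _ (ha r hr) ?_
  show keyOf D a ≤ 2 * (r.val : ℤ) + 1
  have h1 := (T.pos_iff (T.lt r)).1 ((T.pos_val r).1 hr)
  rcases a with i | s
  · show (D.nroots : ℤ) ≤ _
    omega
  · show 2 * (s.val : ℤ) + 1 ≤ _
    by_contra hlt
    have hs : T.S.pos ⟨s.val, T.n_eq.symm ▸ s.isLt⟩ := by
      rw [T.pos_val, T.pos_iff s.isLt]
      show D.nroots ≤ 2 * s.val
      omega
    exact ha ⟨s.val, T.n_eq.symm ▸ s.isLt⟩ hs rfl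

theorem Uw_map_le (w : List (Fin T.tab.l)) :
    (Uw (T.rel K) w).map (D.group F).subtype ≤
      Uneg D F (((T.rel K).nw w : ↥(D.group F)) : GL D.Idx F) := by
  rw [Uw, MonoidHom.map_closure, Subgroup.closure_le]
  rintro _ ⟨_, ⟨r, t, hr, hw, rfl⟩, rfl⟩
  refine Subgroup.subset_closure ⟨r.val, t, (T.pos_val r).1 hr, ?_, rfl⟩
  rw [ChevalleyDatum.rootSubgroup, MonoidHom.map_closure, Subgroup.closure_le]
  rintro _ ⟨g, ⟨u, hu⟩, rfl⟩
  rw [show g = ((T.xG K r u : ↥(D.group F)) : GL D.Idx F) from Units.ext (by rw [hu]; rfl),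
    ← negU_map T K]
  exact ⟨_, nw_conj_x_mem_negU (T.rel K) w hw u, rfl⟩

theorem Uneg_le (n : ↥(D.group F)) {g : GL D.Idx F} (hg : g ∈ Uneg D F (n : GL D.Idx F)) :
    ∃ u : ↥(D.group F), u ∈ (T.rel K).U ∧ n * u * n⁻¹ ∈ negU (T.rel K) ∧ (u : GL D.Idx F) = g := by
  suffices h : Uneg D F (n : GL D.Idx F) ≤
      ((T.rel K).U ⊓ (negU (T.rel K)).comap (MulAut.conj n).toMonoidHom).map (D.group F).subtype by
    obtain ⟨u, ⟨h1, h2⟩, h3⟩ := h hg
    exact ⟨u, h1, h2, h3⟩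
  rw [Uneg, Subgroup.closure_le]
  rintro x ⟨r, t, hr, hle, hx⟩
  let r' : Fin T.tab.n := ⟨r, T.n_eq.symm ▸ hr.1⟩
  have he : ((T.xG K r' t : ↥(D.group F)) : GL D.Idx F) = x := Units.ext (by rw [hx]; rfl)
  refine ⟨T.xG K r' t, ⟨(T.rel K).x_mem_U ((T.pos_val r').2 hr) t, ?_⟩, he⟩
  show n * T.xG K r' t * n⁻¹ ∈ negU (T.rel K)
  have hv : (n : GL D.Idx F) * x * (n : GL D.Idx F)⁻¹ ∈ D.negUnipotent F :=
    hle ⟨x, Subgroup.subset_closure ⟨t, hx⟩, rfl⟩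
  rw [← negU_map T K] at hv
  obtain ⟨z, hz, hze⟩ := hv
  rwa [show n * T.xG K r' t * n⁻¹ = z from Subtype.ext (by rw [← he] at hze; exact hze.symm)]

end Cfsg.Agent.ChevNormal82
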